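import Cfsg.Agent.H16.HN.Five.Data

/-!
A certified divisor of the order of the image of HN: the part for the prime 5 (generated data, checked by the kernel).
-/

set_option autoImplicit false
set_option maxRecDepth 100000
set_option Elab.async false

namespace Cfsg.Agent.H16.HN.Five

theorem chain : chainB tbl levels words = true := by decide +kernel

end Cfsg.Agent.H16.HN.Five
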